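import Cfsg.Agent.Lib.H17.SuzU43.Tables

set_option autoImplicit false
set_option maxRecDepth 100000

/-! # Table checks for SuzU43, part 2 (generated) -/

namespace Cfsg.Agent.Lib.H17.SuzU43

open Cfsg.Spor Cfsg.Agent.Lib.H17.CosetCert Cfsg.Agent.Lib.H17.CoxGlue Cfsg.Agent.Lib.H17.SuzGlue

theorem rngR16 : tabs.all (fun t => checkRangeG L t 22880 8000 500) = true := by
  decide +kernel

theorem relR16 : relT.all (fun ts => checkWordG L ts 8000 500) = true := by
  decide +kernel

theorem connR16 : checkConnG L gr tabs 8000 500 = true := by
  decide +kernel

theorem rngR17 : tabs.all (fun t => checkRangeG L t 22880 8500 500) = true := by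
  decide +kernel

theorem relR17 : relT.all (fun ts => checkWordG L ts 8500 500) = true := by
  decide +kernel

theorem connR17 : checkConnG L gr tabs 8500 500 = true := by
  decide +kernel

theorem rngR18 : tabs.all (fun t => checkRangeG L t 22880 9000 500) = true := by
  decide +kernel

theorem relR18 : relT.all (fun ts => checkWordG L ts 9000 500) = true := by
  decide +kernel

theorem connR18 : checkConnG L gr tabs 9000 500 = true := by
  decide +kernel

theorem rngR19 : tabs.all (fun t => checkRangeG L t 22880 9500 500) = true := by
  decide +kernel

theorem relR19 : relT.all (fun ts => checkWordG L ts 9500 500) = true := by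
  decide +kernel

theorem connR19 : checkConnG L gr tabs 9500 500 = true := by
  decide +kernel

theorem rngR20 : tabs.all (fun t => checkRangeG L t 22880 10000 500) = true := by
  decide +kernel

theorem relR20 : relT.all (fun ts => checkWordG L ts 10000 500) = true := by
  decide +kernel

theorem connR20 : checkConnG L gr tabs 10000 500 = true := by
  decide +kernel

theorem rngR21 : tabs.all (fun t => checkRangeG L t 22880 10500 500) = true := by
  decide +kernel

theorem relR21 : relT.all (fun ts => checkWordG L ts 10500 500) = true := by
  decide +kernel

theorem connR21 : checkConnG L gr tabs 10500 500 = true := by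
  decide +kernel

theorem rngR22 : tabs.all (fun t => checkRangeG L t 22880 11000 500) = true := by
  decide +kernel

theorem relR22 : relT.all (fun ts => checkWordG L ts 11000 500) = true := by
  decide +kernel

theorem connR22 : checkConnG L gr tabs 11000 500 = true := by
  decide +kernel

theorem rngR23 : tabs.all (fun t => checkRangeG L t 22880 11500 500) = true := by
  decide +kernel

theorem relR23 : relT.all (fun ts => checkWordG L ts 11500 500) = true := by
  decide +kernel

theorem connR23 : checkConnG L gr tabs 11500 500 = true := by
  decide +kernel

end Cfsg.Agent.Lib.H17.SuzU43
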